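import Groth.Agent.SubMod72.Main
import Mathlib.CategoryTheory.Preadditive.Biproducts

/-! Extending a quasi-coherent module together with a map to a given module. -/

set_option autoImplicit false
set_option backward.isDefEq.respectTransparency.types false

noncomputable section

universe u

open CategoryTheory Limits AlgebraicGeometry TopologicalSpace Opposite
open Groth.Agent.QC70

namespace Groth.Agent.Props58.Ext

variable {X : Scheme.{u}} {M N : X.Modules}

lemma biprod_total_app (W : X.Opens) (z : Γ(M ⊞ N, W)) :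
    (biprod.inl : M ⟶ M ⊞ N).app W ((biprod.fst : M ⊞ N ⟶ M).app W z) +
      (biprod.inr : N ⟶ M ⊞ N).app W ((biprod.snd : M ⊞ N ⟶ N).app W z) = z := by
  have h := congr(($(biprod.total (X := M) (Y := N))).app W z)
  exact h

/-- `M.app (comp)` unfolded. -/
lemma comp_app_apply {K : X.Modules} (a : M ⟶ N) (b : N ⟶ K) (W : X.Opens) (z : Γ(M, W)) :
    (a ≫ b).app W z = b.app W (a.app W z) := rfl

theorem exists_extension_with_map' (U : X.Opens) [QuasiCompact U.ι]
    (F : X.Modules) [F.IsQuasicoherent] (G : (U : Scheme.{u}).Modules) [G.IsQuasicoherent]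
    (φ : G ⟶ F.restrict U.ι) :
    ∃ (H : X.Modules) (ψ : H ⟶ F) (e : H.restrict U.ι ≅ G), H.IsQuasicoherent ∧
      e.hom ≫ φ = (Scheme.Modules.restrictFunctor U.ι).map ψ ∧
      ∀ W : X.Opens, Function.Bijective (φ.app (U.ι ⁻¹ᵁ W)) → Function.Bijective (ψ.app W) := by
  let adj := Scheme.Modules.restrictAdjunction U.ι
  let R := Scheme.Modules.restrictFunctor U.ι
  let P := Scheme.Modules.pushforward U.ι
  let η : F ⟶ P.obj (F.restrict U.ι) := adj.unit.app F
  let Δ : P.obj G ⊞ F ⟶ P.obj (F.restrict U.ι) := biprod.desc (P.map φ) (-η)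
  have hq1 : (P.obj G).IsQuasicoherent := QCqs72.isQuasicoherent_pushforward G U.ι
  have hq2 : (P.obj (F.restrict U.ι)).IsQuasicoherent :=
    QCqs72.isQuasicoherent_pushforward _ U.ι
  have hq3 : (P.obj G ⊞ F).IsQuasicoherent := by
    let S := ShortComplex.mk (biprod.inl : P.obj G ⟶ P.obj G ⊞ F) biprod.snd (by simp)
    have hS : S.ShortExact := (ShortComplex.Splitting.ofHasBinaryBiproduct (P.obj G) F).shortExact
    exact @isQuasicoherent_X₂ _ S hS hq1 ‹_›
  let H := kernel Δ
  let h : H ⟶ P.obj G := kernel.ι Δ ≫ biprod.fst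
  let ψ : H ⟶ F := kernel.ι Δ ≫ biprod.snd
  have hH : H.IsQuasicoherent := isQuasicoherent_kernel Δ
  have hcomm : h ≫ P.map φ = ψ ≫ η := by
    rw [← sub_eq_zero]
    calc h ≫ P.map φ - ψ ≫ η
        = kernel.ι Δ ≫ (biprod.fst ≫ P.map φ - biprod.snd ≫ η) := by
          simp only [h, ψ, Category.assoc, Preadditive.comp_sub]
      _ = kernel.ι Δ ≫ Δ := by
          congr 1
          rw [show Δ = biprod.fst ≫ P.map φ + biprod.snd ≫ (-η) from biprod.desc_eq,
            Preadditive.comp_neg, sub_eq_add_neg]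
      _ = 0 := kernel.condition Δ
  have hη : ∀ W : X.Opens, W ≤ U → Function.Bijective (η.app W) := by
    intro W hW
    have he : U.ι ''ᵁ (U.ι ⁻¹ᵁ W) = W := by
      rw [Scheme.Hom.image_preimage_eq_opensRange_inf, Scheme.Opens.opensRange_ι]
      exact inf_eq_right.mpr hW
    have : ⇑(η.app W) = fun x => res F he.le x := by
      funext x
      exact congr($(Scheme.Modules.restrictAdjunction_unit_app_app U.ι F W) x)
    rw [this]
    exact Function.bijective_iff_has_inverse.mpr ⟨res F he.ge,
      fun x => by show res F he.ge (res F he.le x) = x; rw [res_res, res_self],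
      fun x => by
        show res F he.le (res F he.ge (show Γ(F, U.ι ''ᵁ (U.ι ⁻¹ᵁ W)) from x)) = _
        rw [res_res, res_self]⟩
  have hbij : ∀ W : X.Opens, W ≤ U → Function.Bijective (h.app W) := by
    intro W hW
    refine ⟨(injective_iff_map_eq_zero (h.app W).hom).mpr fun z hz => ?_, fun g => ?_⟩
    · refine app_injective_of_mono (kernel.ι Δ) W ?_
      rw [map_zero, ← biprod_total_app W ((kernel.ι Δ).app W z)]
      have hz' : (biprod.fst : P.obj G ⊞ F ⟶ P.obj G).app W ((kernel.ι Δ).app W z) = 0 := hz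
      have hψ : ψ.app W z = 0 := (hη W hW).1 (by
        rw [map_zero, ← comp_app_apply, ← hcomm, comp_app_apply]
        exact (congrArg ((P.map φ).app W) hz).trans (map_zero _))
      have hψ' : (biprod.snd : P.obj G ⊞ F ⟶ F).app W ((kernel.ι Δ).app W z) = 0 := hψ
      rw [hz', hψ', map_zero, map_zero, add_zero]
    · obtain ⟨x, hx⟩ := (hη W hW).2 ((P.map φ).app W g)
      let y : Γ(P.obj G ⊞ F, W) := (biprod.inl : P.obj G ⟶ _).app W g + (biprod.inr : F ⟶ _).app W x
      obtain ⟨z, hz⟩ := exists_kernel_app_eq Δ W y (by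
        simp only [y, map_add, ← comp_app_apply, Δ, biprod.inl_desc, biprod.inr_desc]
        rw [← hx]
        exact add_neg_cancel _)
      refine ⟨z, ?_⟩
      show (biprod.fst : P.obj G ⊞ F ⟶ P.obj G).app W ((kernel.ι Δ).app W z) = g
      rw [hz]
      simp only [y, map_add, ← comp_app_apply, biprod.inl_fst, biprod.inr_fst]
      exact add_zero _
  have : IsIso (R.map h) := by
    refine Scheme.Modules.Hom.isIso_iff_isIso_app.2 fun T => ?_
    rw [ConcreteCategory.isIso_iff_bijective]
    exact hbij _ (SubMod72.image_le U T)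
  refine ⟨H, ψ, asIso (R.map h ≫ adj.counit.app G), hH, ?_, fun W hφ => ?_⟩
  swap
  · have hPφ : Function.Bijective ((P.map φ).app W) := hφ
    refine ⟨(injective_iff_map_eq_zero (ψ.app W).hom).mpr fun z hz => ?_, fun x => ?_⟩
    · refine app_injective_of_mono (kernel.ι Δ) W ?_
      rw [map_zero, ← biprod_total_app W ((kernel.ι Δ).app W z)]
      have hh : h.app W z = 0 := hPφ.1 (by
        rw [map_zero, ← comp_app_apply, hcomm, comp_app_apply]
        exact (congrArg (η.app W) hz).trans (map_zero _))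
      have hh' : (biprod.fst : P.obj G ⊞ F ⟶ P.obj G).app W ((kernel.ι Δ).app W z) = 0 := hh
      have hz' : (biprod.snd : P.obj G ⊞ F ⟶ F).app W ((kernel.ι Δ).app W z) = 0 := hz
      rw [hh', hz', map_zero, map_zero, add_zero]
    · obtain ⟨g, hg⟩ := hPφ.2 (η.app W x)
      let y : Γ(P.obj G ⊞ F, W) := (biprod.inl : P.obj G ⟶ _).app W g + (biprod.inr : F ⟶ _).app W x
      obtain ⟨z, hz⟩ := exists_kernel_app_eq Δ W y (by
        simp only [y, map_add, ← comp_app_apply, Δ, biprod.inl_desc, biprod.inr_desc]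
        rw [hg]
        exact add_neg_cancel _)
      refine ⟨z, ?_⟩
      show (biprod.snd : P.obj G ⊞ F ⟶ F).app W ((kernel.ι Δ).app W z) = x
      rw [hz]
      simp only [y, map_add, ← comp_app_apply, biprod.inl_snd, biprod.inr_snd]
      exact zero_add _
  calc (R.map h ≫ adj.counit.app G) ≫ φ
      = R.map (h ≫ P.map φ) ≫ adj.counit.app (F.restrict U.ι) := by
        rw [Category.assoc, ← adj.counit_naturality φ]
        exact (R.map_comp_assoc h (P.map φ) _).symm
    _ = R.map ψ ≫ (R.map η ≫ adj.counit.app (F.restrict U.ι)) := by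
        rw [hcomm, Functor.map_comp, Category.assoc]
    _ = R.map ψ := by
        rw [show R.map η ≫ adj.counit.app (F.restrict U.ι) = 𝟙 _ from
          adj.left_triangle_components F]
        exact Category.comp_id _

theorem exists_extension_with_map (U : X.Opens) [QuasiCompact U.ι]
    (F : X.Modules) [F.IsQuasicoherent] (G : (U : Scheme.{u}).Modules) [G.IsQuasicoherent]
    (φ : G ⟶ F.restrict U.ι) :
    ∃ (H : X.Modules) (ψ : H ⟶ F) (e : H.restrict U.ι ≅ G), H.IsQuasicoherent ∧
      e.hom ≫ φ = (Scheme.Modules.restrictFunctor U.ι).map ψ :=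
  let ⟨H, ψ, e, h1, h2, _⟩ := exists_extension_with_map' U F G φ
  ⟨H, ψ, e, h1, h2⟩

end Groth.Agent.Props58.Ext
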