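import Groth.Agent.Props58.Ext.Local
import Groth.Agent.Props58.Ext.ExtendMap
import Groth.Agent.QC70.Coherent

/-! Extension of finitely presented modules and quotients from finitely presented modules. -/

set_option autoImplicit false
set_option backward.isDefEq.respectTransparency.types false

noncomputable section

universe u

open CategoryTheory Limits AlgebraicGeometry TopologicalSpace Opposite
open Groth.Agent.QC70 Groth.Agent.Props58.LocFree

namespace Groth.Agent.Props58.Ext

variable {X : Scheme.{u}}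

/-- The short complex of a monomorphism and its cokernel. -/
lemma shortExact_cokernel {K P : X.Modules} (κ : K ⟶ P) [Mono κ] :
    (ShortComplex.mk κ (cokernel.π κ) (cokernel.condition κ)).ShortExact where
  exact := ShortComplex.exact_of_g_is_cokernel _ (cokernelIsCokernel κ)
  mono_f := ‹Mono κ›
  epi_g := inferInstanceAs (Epi (cokernel.π κ))

lemma shortExact_kernel {P F : X.Modules} (φ : P ⟶ F) [Epi φ] :
    (ShortComplex.mk (kernel.ι φ) φ (kernel.condition φ)).ShortExact where
  exact := ShortComplex.exact_of_f_is_kernel _ (kernelIsKernel φ)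
  mono_f := inferInstanceAs (Mono (kernel.ι φ))
  epi_g := ‹Epi φ›

/-- The quotient of a finitely presented module by a finite type module is finitely presented. -/
lemma fpOn_cokernel {K P : X.Modules} (κ : K ⟶ P) [Mono κ] [K.IsQuasicoherent] {W : X.Opens}
    (hP : FPOn P W)
    (hK : ∀ D : X.Opens, IsAffineOpen D → D ≤ W → Module.Finite Γ(X, D) Γ(K, D)) :
    FPOn (cokernel κ) W := by
  intro D hD hDW
  have := hP D hD hDW
  have := hK D hD hDW
  haveI : (ShortComplex.mk κ (cokernel.π κ) (cokernel.condition κ)).X₁.IsQuasicoherent := ‹_›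
  have hsurj := app_surjective_of_isAffineOpen _ (shortExact_cokernel κ) hD
  refine Module.finitePresentation_of_surjective (appLinear (cokernel.π κ) D) hsurj ?_
  have : LinearMap.ker (appLinear (cokernel.π κ) D) = LinearMap.range (appLinear κ D) := by
    ext x
    refine ⟨fun hx => ?_, ?_⟩
    · obtain ⟨y, hy⟩ := @exists_app_eq_of_exact _ _ (shortExact_cokernel κ).exact ‹Mono κ› D x hx
      exact ⟨y, hy⟩
    · rintro ⟨y, rfl⟩
      exact app_f_g (ShortComplex.mk κ (cokernel.π κ) (cokernel.condition κ)) D y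
  rw [this]
  exact Submodule.fg_range _

/-- The kernel of a surjection of finitely presented modules has finitely generated sections. -/
lemma finite_kernel_sections {P F : X.Modules} (φ : P ⟶ F) [Epi φ] [P.IsQuasicoherent]
    [F.IsQuasicoherent] {D : X.Opens} (hD : IsAffineOpen D)
    [Module.FinitePresentation Γ(X, D) Γ(P, D)] [Module.FinitePresentation Γ(X, D) Γ(F, D)] :
    Module.Finite Γ(X, D) Γ(kernel φ, D) := by
  have := isQuasicoherent_kernel φ
  haveI : (ShortComplex.mk (kernel.ι φ) φ (kernel.condition φ)).X₁.IsQuasicoherent := this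
  have hsurj := app_surjective_of_isAffineOpen _ (shortExact_kernel φ) hD
  have hinj : Function.Injective (appLinear (kernel.ι φ) D) := app_injective_of_mono (kernel.ι φ) D
  have hr : LinearMap.range (appLinear (kernel.ι φ) D) = LinearMap.ker (appLinear φ D) := by
    ext x
    refine ⟨?_, fun hx => exists_kernel_app_eq φ D x hx⟩
    rintro ⟨y, rfl⟩
    exact app_f_g (ShortComplex.mk (kernel.ι φ) φ (kernel.condition φ)) D y
  have : Module.Finite Γ(X, D) (LinearMap.range (appLinear (kernel.ι φ) D)) := by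
    rw [hr]
    exact Module.Finite.of_fg (Module.FinitePresentation.fg_ker _ hsurj)
  exact Module.Finite.equiv (LinearEquiv.ofInjective _ hinj).symm

variable [CompactSpace X] [QuasiSeparatedSpace X]

/-- A finite type submodule agreeing on a quasi-compact open. -/
lemma exists_fg_sub (H : X.Modules) [H.IsQuasicoherent] {W : X.Opens}
    (hW : IsCompact (W : Set X))
    (h : ∀ D : X.Opens, IsAffineOpen D → D ≤ W → Module.Finite Γ(X, D) Γ(H, D)) :
    ∃ (H₁ : X.Modules) (j : H₁ ⟶ H), Mono j ∧ H₁.IsQuasicoherent ∧ H₁.IsFiniteType ∧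
      ∀ T ≤ W, Function.Bijective (j.app T) := by
  obtain ⟨Q, hQ, hQP⟩ := SubMod72.exists_extension_qcqs hW (fg_topSub_of_finite h)
  obtain ⟨h1, h2⟩ := SubMod72.isQuasicoherent_isFiniteType_toMod hQ
  refine ⟨SubMod72.toMod Q, SubMod72.toModι Q, inferInstance, h1, h2, fun T hT =>
    ⟨app_injective_of_mono _ T, fun x => (SubMod72.mem_iff_exists Q x).mp ?_⟩⟩
  rw [hQP T hT]
  trivial

/-- A quotient of a finitely presented module can be lifted to a finitely presented quotient which
agrees on a quasi-compact open where the quotient is finitely presented. -/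
theorem exists_fp_quotient {P F : X.Modules} (φ : P ⟶ F) [Epi φ] [P.IsQuasicoherent]
    [F.IsQuasicoherent] (hP : FPOn P ⊤) {W : X.Opens} (hW : IsCompact (W : Set X))
    (hF : FPOn F W) :
    ∃ (N : X.Modules) (π : P ⟶ N) (χ : N ⟶ F), Epi π ∧ π ≫ χ = φ ∧ N.IsQuasicoherent ∧
      FPOn N ⊤ ∧ ∀ T ≤ W, Function.Bijective (χ.app T) := by
  have hK := isQuasicoherent_kernel φ
  obtain ⟨K₁, j, hj, hK₁, hK₁ft, hjW⟩ := exists_fg_sub (kernel φ) hW fun D hD hDW => by
    have := hP D hD le_top
    have := hF D hD hDW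
    exact finite_kernel_sections φ hD
  let κ := j ≫ kernel.ι φ
  let N := cokernel κ
  let χ : N ⟶ F := cokernel.desc κ φ (by simp [κ, kernel.condition])
  have hπχ : cokernel.π κ ≫ χ = φ := cokernel.π_desc _ _ _
  have hN : N.IsQuasicoherent := isQuasicoherent_cokernel κ
  have hNfp : FPOn N ⊤ := fpOn_cokernel κ hP fun D hD _ => finite_sections_of_isFiniteType K₁ hD
  refine ⟨N, cokernel.π κ, χ, inferInstance, hπχ, hN, hNfp, bijective_app_of_local χ ?_ ?_⟩
  · intro T hT
    refine (injective_iff_map_eq_zero (χ.app T).hom).mpr fun z hz => ?_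
    refine section_ext N z 0 fun p hp => ?_
    obtain ⟨V, hV, y, hpV, hy⟩ := exists_local_lift (cokernel.π κ) z hp
    refine ⟨V, hV, hpV, ?_⟩
    have h0 : φ.app V y = 0 := by
      have : χ.app V ((cokernel.π κ).app V y) = φ.app V y := congr(($hπχ).app V y)
      rw [← this, hy, app_res]
      exact (congrArg (res F hV) hz).trans (res_zero _)
    obtain ⟨k, hk⟩ := exists_kernel_app_eq φ V y h0
    obtain ⟨k₁, hk₁⟩ := (hjW V (hV.trans hT)).2 k
    rw [res_zero, ← hy, ← hk, ← hk₁]
    exact app_f_g (ShortComplex.mk κ (cokernel.π κ) (cokernel.condition κ)) V k₁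
  · intro T _ z p hp
    obtain ⟨V, hV, y, hpV, hy⟩ := exists_local_lift φ z hp
    refine ⟨V, hV, (cokernel.π κ).app V y, hpV, ?_⟩
    rw [← hy]
    exact congr(($hπχ).app V y)

omit [CompactSpace X] [QuasiSeparatedSpace X] in
/-- On an affine scheme, a quasi-coherent module which is finitely presented on a quasi-compact open
receives a map from a finitely presented module which is bijective there. -/
theorem exists_fp_of_affine [IsAffine X] (H : X.Modules) [H.IsQuasicoherent] {W : X.Opens}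
    (hW : IsCompact (W : Set X)) (hH : FPOn H W) :
    ∃ (N : X.Modules) (χ : N ⟶ H), N.IsQuasicoherent ∧ FPOn N ⊤ ∧
      ∀ T ≤ W, Function.Bijective (χ.app T) := by
  obtain ⟨H₁, j, hj, hH₁, hH₁ft, hjW⟩ := exists_fg_sub H hW fun D hD hDW => by
    have := hH D hD hDW
    infer_instance
  have hX := isAffineOpen_top X
  have := finite_sections_of_isFiniteType H₁ hX
  obtain ⟨n, s, hs⟩ := Module.Finite.exists_fin (R := Γ(X, ⊤)) (M := Γ(H₁, ⊤))
  let φ : FlatMod.freeMod X n ⟶ H₁ := freeDesc s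
  have hgen := locGenBy_of_span_eq_top H₁ hX (isLocAt_of_isQuasicoherent H₁ hX)
    (s ∘ (ULift.down : ULift.{u} (Fin n) → Fin n))
    (by rw [Set.range_comp, ULift.down_surjective.range_eq, Set.image_univ, hs])
  have hepi : Epi φ := by
    refine epi_of_locally_surjective φ fun T z p hp => ?_
    obtain ⟨V, h₁, h₂, a, hpV, e⟩ := hgen T le_top z p hp
    refine ⟨V, h₁, ∑ i, a ⟨i⟩ • res _ le_top (unitVec X n i), hpV, ?_⟩
    rw [freeDesc_comb, e]
    exact Fintype.sum_equiv Equiv.ulift.symm _ _ fun _ => rfl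
  have := isQuasicoherent_freeMod X n
  obtain ⟨N, π, χ, -, -, hN, hNfp, hχ⟩ := exists_fp_quotient φ
    (fun T _ _ => finitePresentation_free_sections n T) hW (hH.of_bijective' j hjW)
  refine ⟨N, χ ≫ j, hN, hNfp, fun T hT => ?_⟩
  exact (hjW T hT).comp (hχ T hT)

/-- One step: enlarge the locus of finite presentation by an affine open. -/
theorem exists_fp_step (Q : X.Modules) [Q.IsQuasicoherent] {W : X.Opens}
    (hW : IsCompact (W : Set X)) (hQ : FPOn Q W) {V : X.Opens} (hV : IsAffineOpen V) :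
    ∃ (Q' : X.Modules) (ψ : Q' ⟶ Q), Q'.IsQuasicoherent ∧ FPOn Q' (W ⊔ V) ∧
      ∀ T ≤ W, Function.Bijective (ψ.app T) := by
  haveI : IsAffine (V : Scheme.{u}) := hV
  haveI : CompactSpace (V : Scheme.{u}) := isCompact_iff_compactSpace.mp hV.isCompact
  let W' : (V : Scheme.{u}).Opens := V.ι ⁻¹ᵁ W
  have hW' : IsCompact (W' : Set (V : Scheme.{u})) := by
    have hc : IsCompact ((W ⊓ V : X.Opens) : Set X) := by
      rw [Opens.coe_inf]
      exact QuasiSeparatedSpace.inter_isCompact _ _ W.2 hW V.2 hV.isCompact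
    rw [V.ι.isOpenEmbedding.toIsEmbedding.isCompact_iff]
    convert hc using 1
    rw [Opens.coe_inf, Set.inter_comm, ← Scheme.Hom.coe_image,
      Scheme.Hom.image_preimage_eq_opensRange_inf, Scheme.Opens.opensRange_ι, Opens.coe_inf]
  obtain ⟨N, χ, hN, hNfp, hχ⟩ := exists_fp_of_affine (Q.restrict V.ι) hW'
    ((fpOn_restrict_iff V.ι W').mpr (hQ.mono (V.ι.image_preimage_le W)))
  obtain ⟨Q', ψ, e, hQ', -, hψ⟩ := exists_extension_with_map' V Q N χ
  have hbij : ∀ T ≤ W, Function.Bijective (ψ.app T) := fun T hT =>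
    hψ T (hχ _ (V.ι.preimage_mono hT))
  refine ⟨Q', ψ, hQ', FPOn.sup (hQ.of_bijective' ψ hbij) ?_, hbij⟩
  have h := hNfp.of_bijective e.inv fun T _ => ConcreteCategory.bijective_of_isIso (e.inv.app T)
  rw [fpOn_restrict_iff, Scheme.Hom.image_top_eq_opensRange, Scheme.Opens.opensRange_ι] at h
  exact h

/-- Extension of a finitely presented module with a map. -/
theorem exists_fp_extension (F : X.Modules) [F.IsQuasicoherent] (U : X.Opens)
    (hU : IsCompact (U : Set X)) (G : (U : Scheme.{u}).Modules) (hG : CohB1.IsFP G)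
    (φ : G ⟶ F.restrict U.ι) :
    ∃ (G' : X.Modules) (φ' : G' ⟶ F) (e : G'.restrict U.ι ≅ G), CohB1.IsFP G' ∧
      e.hom ≫ φ = (Scheme.Modules.restrictFunctor U.ι).map φ' := by
  haveI : G.IsQuasicoherent := by
    haveI := hG
    infer_instance
  haveI : CompactSpace (U : Scheme.{u}) := isCompact_iff_compactSpace.mp hU
  obtain ⟨H, ψ₀, e₀, hH, he₀⟩ := exists_extension_with_map U F G φ
  have hHU : FPOn H U := by
    have h := (fpOn_of_isFP G ⊤).of_bijective e₀.inv
      fun T _ => ConcreteCategory.bijective_of_isIso (e₀.inv.app T)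
    rwa [fpOn_restrict_iff, Scheme.Hom.image_top_eq_opensRange, Scheme.Opens.opensRange_ι] at h
  have : ∀ S : X.Opens, IsCompact (S : Set X) → ∃ (Q : X.Modules) (ψ : Q ⟶ H),
      Q.IsQuasicoherent ∧ FPOn Q (U ⊔ S) ∧ ∀ T ≤ U, Function.Bijective (ψ.app T) := by
    intro S hS
    refine compact_open_induction_on (P := fun S => ∃ (Q : X.Modules) (ψ : Q ⟶ H),
      Q.IsQuasicoherent ∧ FPOn Q (U ⊔ S) ∧ ∀ T ≤ U, Function.Bijective (ψ.app T)) S hS
      ⟨H, 𝟙 _, hH, by rwa [sup_bot_eq], fun _ _ => Function.bijective_id⟩ ?_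
    rintro S hS V ⟨Q, ψ, hQ, hfp, hbij⟩
    have hc : IsCompact ((U ⊔ S : X.Opens) : Set X) := by
      rw [Opens.coe_sup]; exact hU.union hS
    obtain ⟨Q', ψ', hQ', hfp', hbij'⟩ := exists_fp_step Q hc hfp V.2
    refine ⟨Q', ψ' ≫ ψ, hQ', by rwa [← sup_assoc], fun T hT => ?_⟩
    exact (hbij T hT).comp (hbij' T (hT.trans le_sup_left))
  obtain ⟨Q, ψ, hQ, hfp, hbij⟩ := this ⊤ (by rw [Opens.coe_top]; exact isCompact_univ)
  rw [sup_top_eq] at hfp
  let R := Scheme.Modules.restrictFunctor U.ι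
  have : IsIso (R.map ψ) := by
    refine Scheme.Modules.Hom.isIso_iff_isIso_app.2 fun T => ?_
    rw [ConcreteCategory.isIso_iff_bijective]
    exact hbij _ (SubMod72.image_le U T)
  refine ⟨Q, ψ ≫ ψ₀, asIso (R.map ψ) ≪≫ e₀, isFP_of_fpOn Q hfp, ?_⟩
  rw [Iso.trans_hom, asIso_hom, Category.assoc, he₀, Functor.map_comp]

omit [CompactSpace X] [QuasiSeparatedSpace X] in
lemma isFP_biprod {P P' : X.Modules} (hP : CohB1.IsFP P) (hP' : CohB1.IsFP P') :
    CohB1.IsFP (P ⊞ P') := by
  let S := ShortComplex.mk (biprod.inl : P ⟶ P ⊞ P') biprod.snd (by simp)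
  have hS : S.ShortExact := (ShortComplex.Splitting.ofHasBinaryBiproduct P P').shortExact
  haveI : P.IsQuasicoherent := by haveI := hP; infer_instance
  haveI : P'.IsQuasicoherent := by haveI := hP'; infer_instance
  haveI := @isQuasicoherent_X₂ _ S hS ‹P.IsQuasicoherent› ‹P'.IsQuasicoherent›
  refine isFP_of_fpOn _ fun D hD _ => ?_
  haveI := fpOn_of_isFP P ⊤ D hD le_top
  haveI := fpOn_of_isFP P' ⊤ D hD le_top
  let l : Γ(P ⊞ P', D) →ₗ[Γ(X, D)] Γ(P, D) × Γ(P', D) :=
    (appLinear (biprod.fst : P ⊞ P' ⟶ P) D).prod (appLinear (biprod.snd : P ⊞ P' ⟶ P') D)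
  have hl : Function.Bijective l := by
    refine ⟨fun z w h => ?_, fun q => ⟨(biprod.inl : P ⟶ P ⊞ P').app D q.1 +
      (biprod.inr : P' ⟶ P ⊞ P').app D q.2, ?_⟩⟩
    · have h₁ : (biprod.fst : P ⊞ P' ⟶ P).app D z = (biprod.fst : P ⊞ P' ⟶ P).app D w :=
        congrArg Prod.fst h
      have h₂ : (biprod.snd : P ⊞ P' ⟶ P').app D z = (biprod.snd : P ⊞ P' ⟶ P').app D w :=
        congrArg Prod.snd h
      rw [← biprod_total_app D z, ← biprod_total_app D w, h₁, h₂]
    · refine Prod.ext ?_ ?_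
      · show (biprod.fst : P ⊞ P' ⟶ P).app D _ = q.1
        simp only [map_add, ← comp_app_apply, biprod.inl_fst, biprod.inr_fst]
        exact add_zero _
      · show (biprod.snd : P ⊞ P' ⟶ P').app D _ = q.2
        simp only [map_add, ← comp_app_apply, biprod.inl_snd, biprod.inr_snd]
        exact zero_add _
  exact Module.FinitePresentation.of_equiv (LinearEquiv.ofBijective l hl).symm

/-- A finite type quasi-coherent module is a quotient of a finitely presented one. -/
theorem exists_fp_epi (F : X.Modules) [F.IsQuasicoherent] [F.IsFiniteType] :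
    ∃ (P : X.Modules) (φ : P ⟶ F), CohB1.IsFP P ∧ Epi φ := by
  have : ∀ S : X.Opens, IsCompact (S : Set X) → ∃ (P : X.Modules) (φ : P ⟶ F), CohB1.IsFP P ∧
      ∀ x ∈ S, Function.Surjective (stalkMapM φ x) := by
    intro S hS
    refine compact_open_induction_on (P := fun S => ∃ (P : X.Modules) (φ : P ⟶ F),
      CohB1.IsFP P ∧ ∀ x ∈ S, Function.Surjective (stalkMapM φ x)) S hS ?_ ?_
    · have := isQuasicoherent_freeMod X 0
      exact ⟨FlatMod.freeMod X 0, 0,
        isFP_of_fpOn _ fun T _ _ => finitePresentation_free_sections 0 T,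
        fun x hx => absurd hx id⟩
    rintro S - V ⟨P, φ, hP, hφ⟩
    haveI : IsAffine (V.1 : Scheme.{u}) := V.2
    haveI : CompactSpace (V.1 : Scheme.{u}) := isCompact_iff_compactSpace.mp V.2.isCompact
    have := QCRes72.isFiniteType_restrict V.1.ι F
    have := finite_sections_of_isFiniteType (F.restrict V.1.ι) (isAffineOpen_top (V.1 : Scheme.{u}))
    obtain ⟨n, s, hs⟩ := Module.Finite.exists_fin (R := Γ((V.1 : Scheme.{u}), ⊤))
      (M := Γ(F.restrict V.1.ι, ⊤))
    have := isQuasicoherent_freeMod (V.1 : Scheme.{u}) n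
    obtain ⟨G, ψ, e, hGfp, he⟩ := exists_fp_extension F V.1 V.2.isCompact
      (FlatMod.freeMod (V.1 : Scheme.{u}) n)
      (isFP_of_fpOn _ fun T _ _ => finitePresentation_free_sections n T) (freeDesc s)
    refine ⟨P ⊞ G, biprod.desc φ ψ, isFP_biprod hP hGfp, fun x hx z => ?_⟩
    rcases hx with hx | hx
    · obtain ⟨y, rfl⟩ := hφ x hx z
      obtain ⟨W, hxW, t, rfl⟩ := germM_exist y
      refine ⟨germM _ W x hxW ((biprod.inl : P ⟶ P ⊞ G).app W t), ?_⟩
      rw [stalkMapM_germ, stalkMapM_germ, ← comp_app_apply, biprod.inl_desc]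
    · obtain ⟨W, hxW, t, rfl⟩ := germM_exist z
      have hV := isAffineOpen_top (V.1 : Scheme.{u})
      have hgen := locGenBy_of_span_eq_top (F.restrict V.1.ι) hV
        (isLocAt_of_isQuasicoherent _ hV) (s ∘ (ULift.down : ULift.{u} (Fin n) → Fin n))
        (by rw [Set.range_comp, ULift.down_surjective.range_eq, Set.image_univ, hs])
      obtain ⟨O, h₁, h₂, a, hxO, ea⟩ := hgen (V.1.ι ⁻¹ᵁ W) le_top
        ((F.restrictAppIso V.1.ι _).inv (res F (V.1.ι.image_preimage_le W) t)) ⟨x, hx⟩ hxW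
      let y₀ : Γ(G.restrict V.1.ι, O) :=
        e.inv.app O (∑ i, a ⟨i⟩ • res _ le_top (unitVec _ n i))
      have hy₀ : ((Scheme.Modules.restrictFunctor V.1.ι).map ψ).app O y₀ =
          res (F.restrict V.1.ι) h₁ ((F.restrictAppIso V.1.ι _).inv
            (res F (V.1.ι.image_preimage_le W) t)) := by
        rw [ea, ← he]
        show (freeDesc s).app O (e.hom.app O (e.inv.app O _)) = _
        rw [← comp_app_apply e.inv e.hom, e.inv_hom_id]
        show (freeDesc s).app O (∑ i, a ⟨i⟩ • res _ le_top (unitVec _ n i)) = _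
        rw [freeDesc_comb]
        exact Fintype.sum_equiv Equiv.ulift.symm _ _ fun _ => rfl
      have hxi : x ∈ V.1.ι ''ᵁ O := ⟨⟨x, hx⟩, hxO, rfl⟩
      let y : Γ(G, V.1.ι ''ᵁ O) := (G.restrictAppIso V.1.ι O).hom y₀
      have hy : ψ.app _ y = res F ((V.1.ι.image_mono h₁).trans (V.1.ι.image_preimage_le W)) t := by
        refine (hy₀ : ψ.app _ y = _).trans ?_
        exact res_res (V.1.ι.image_preimage_le W) (V.1.ι.image_mono h₁) t
      refine ⟨germM _ _ x hxi ((biprod.inr : G ⟶ P ⊞ G).app _ y), ?_⟩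
      rw [stalkMapM_germ, ← comp_app_apply, biprod.inr_desc, hy, germM_res]
  obtain ⟨P, φ, hP, hφ⟩ := this ⊤ (by rw [Opens.coe_top]; exact isCompact_univ)
  exact ⟨P, φ, hP, epi_of_surjective_stalkMapM φ fun x => hφ x trivial⟩

end Groth.Agent.Props58.Ext
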