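import Groth.Agent.Props58.LocFree.Affine
import Groth.Agent.SubMod72.Main

/-! Local criteria and small constructions used for extensions of finitely presented modules. -/

set_option autoImplicit false
set_option backward.isDefEq.respectTransparency.types false

noncomputable section

universe u

open CategoryTheory Limits AlgebraicGeometry TopologicalSpace Opposite
open Groth.Agent.QC70 Groth.Agent.Props58.LocFree

namespace Groth.Agent.Props58.Ext

/-- Finite presentation along a semilinear equivalence over a ring isomorphism. -/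
lemma finitePresentation_of_semilinear {R S M N : Type*} [CommRing R] [CommRing S] [AddCommGroup M]
    [Module R M] [AddCommGroup N] [Module S N] (σ : R ≃+* S) (e : M ≃+ N)
    (he : ∀ (r : R) (m : M), e (r • m) = σ r • e m) [Module.FinitePresentation R M] :
    Module.FinitePresentation S N := by
  letI : Algebra S R := σ.symm.toRingHom.toAlgebra
  letI : Module S M := Module.compHom M σ.symm.toRingHom
  haveI : IsScalarTower S R M := IsScalarTower.of_algebraMap_smul fun _ _ => rfl
  haveI : Module.FinitePresentation S R :=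
    Module.FinitePresentation.of_equiv (LinearEquiv.ofBijective (Algebra.linearMap S R) σ.symm.bijective)
  haveI := Module.FinitePresentation.trans (R := S) (M := M) R
  exact Module.FinitePresentation.of_equiv (M := M)
    { e with
      map_smul' := fun s m => by
        show e (σ.symm s • m) = s • e m
        rw [he, σ.apply_symm_apply] }

variable {X : Scheme.{u}} {M N : X.Modules}

/-- Finite presentation of sections is local on the affine open. -/
lemma finitePresentation_of_local (M : X.Modules) [M.IsQuasicoherent] {U : X.Opens}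
    (hU : IsAffineOpen U)
    (key : ∀ x : U, ∃ f : Γ(X, U), (x : X) ∈ X.basicOpen f ∧
      Module.FinitePresentation Γ(X, X.basicOpen f) Γ(M, X.basicOpen f)) :
    Module.FinitePresentation Γ(X, U) Γ(M, U) := by
  choose f hxf hf using key
  have hs : Ideal.span (Set.range f) = ⊤ :=
    hU.iSup_basicOpen_eq_self_iff.mp <| le_antisymm (iSup_le fun r => X.basicOpen_le _)
      fun y hy => Opens.mem_iSup.mpr ⟨⟨f ⟨y, hy⟩, ⟨y, hy⟩, rfl⟩, hxf ⟨y, hy⟩⟩
  letI := fun g : Set.range f => resAlg (X.basicOpen_le (g : Γ(X, U)))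
  letI := fun g : Set.range f => resModule M (X.basicOpen_le (g : Γ(X, U)))
  haveI := fun g : Set.range f => isScalarTower_res M (X.basicOpen_le (g : Γ(X, U)))
  haveI := fun g : Set.range f => isLocalization_resAlg hU (g : Γ(X, U))
  haveI := fun g : Set.range f => isLocalizedModule_resLin M (isLocAt_of_isQuasicoherent M hU) (g : Γ(X, U))
  exact Module.FinitePresentation.of_localizationSpan' (Set.range f) hs
    (Rₚ := fun g => Γ(X, X.basicOpen (g : Γ(X, U))))
    (fun g => resLin M (X.basicOpen_le (g : Γ(X, U)))) (by rintro ⟨_, x, rfl⟩; exact hf x)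

/-- Sections over all affine opens inside `W` are finitely presented. -/
def FPOn (M : X.Modules) (W : X.Opens) : Prop :=
  ∀ T : X.Opens, IsAffineOpen T → T ≤ W → Module.FinitePresentation Γ(X, T) Γ(M, T)

lemma FPOn.mono {W W' : X.Opens} (h : FPOn M W) (h' : W' ≤ W) : FPOn M W' :=
  fun T hT hle => h T hT (hle.trans h')

lemma FPOn.sup [M.IsQuasicoherent] {W W' : X.Opens} (h : FPOn M W) (h' : FPOn M W') :
    FPOn M (W ⊔ W') := by
  intro T hT hle
  refine finitePresentation_of_local M hT fun x => ?_
  rcases hle x.2 with hx | hx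
  · obtain ⟨f, hf, hxf⟩ := hT.exists_basicOpen_le ⟨(x : X), hx⟩ x.2
    exact ⟨f, hxf, h _ (hT.basicOpen f) hf⟩
  · obtain ⟨f, hf, hxf⟩ := hT.exists_basicOpen_le ⟨(x : X), hx⟩ x.2
    exact ⟨f, hxf, h' _ (hT.basicOpen f) hf⟩

lemma fpOn_bot (M : X.Modules) [M.IsQuasicoherent] : FPOn M ⊥ := fun _ hT hle =>
  finitePresentation_of_local M hT fun x => absurd (hle x.2) id

lemma fpOn_of_isFP (M : X.Modules) [CohB1.IsFP M] (W : X.Opens) : FPOn M W :=
  fun _ hT _ => finitePresentation_sections M hT

lemma isFP_of_fpOn (M : X.Modules) [M.IsQuasicoherent] (h : FPOn M ⊤) : CohB1.IsFP M :=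
  isFP_of_sections M (fun U : X.affineOpens => U.1) (iSup_affineOpens_eq_top X) (fun U => U.2)
    fun U => h U.1 U.2 le_top

/-- Bijectivity on sections inside `W` transports `FPOn`. -/
lemma FPOn.of_bijective (φ : M ⟶ N) {W : X.Opens}
    (hφ : ∀ T ≤ W, Function.Bijective (φ.app T)) (h : FPOn M W) : FPOn N W := fun T hT hle =>
  have := h T hT hle
  Module.FinitePresentation.of_equiv (LinearEquiv.ofBijective (appLinear φ T) (hφ T hle))

lemma FPOn.of_bijective' (φ : M ⟶ N) {W : X.Opens}
    (hφ : ∀ T ≤ W, Function.Bijective (φ.app T)) (h : FPOn N W) : FPOn M W := fun T hT hle =>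
  have := h T hT hle
  Module.FinitePresentation.of_equiv (LinearEquiv.ofBijective (appLinear φ T) (hφ T hle)).symm

/-- `FPOn` for a restriction is `FPOn` for the module. -/
lemma fpOn_restrict_iff {Y : Scheme.{u}} (f : Y ⟶ X) [IsOpenImmersion f] (W : Y.Opens) :
    FPOn (M.restrict f) W ↔ FPOn M (f ''ᵁ W) := by
  constructor
  · intro h T hT hle
    have hr : T ≤ f.opensRange := hle.trans (f.image_le_opensRange W)
    have hT' : IsAffineOpen (f ⁻¹ᵁ T) := hT.preimage_of_isOpenImmersion f hr
    have heq : f ''ᵁ (f ⁻¹ᵁ T) = T := by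
      rw [Scheme.Hom.image_preimage_eq_opensRange_inf, inf_eq_right.mpr hr]
    have := h _ hT' ((f.preimage_mono hle).trans (f.preimage_image_eq W).le)
    have h' : Module.FinitePresentation Γ(X, f ''ᵁ (f ⁻¹ᵁ T)) Γ(M, f ''ᵁ (f ⁻¹ᵁ T)) :=
      finitePresentation_of_semilinear (f.appIso (f ⁻¹ᵁ T)).symm.commRingCatIsoToRingEquiv
        (M.restrictAppIso f (f ⁻¹ᵁ T)).addCommGroupIsoToAddEquiv
        (fun r m => Scheme.Modules.smul_restrictAppIso_hom_apply f M _ r m)
    rwa [heq] at h'
  · intro h T hT hle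
    have := h _ (hT.image_of_isOpenImmersion f) (f.image_mono hle)
    exact finitePresentation_of_semilinear (f.appIso T).commRingCatIsoToRingEquiv
      (M.restrictAppIso f T).symm.addCommGroupIsoToAddEquiv
      (fun r m => by
        show (M.restrictAppIso f T).inv (r • m) =
          (f.appIso T).hom r • (M.restrictAppIso f T).inv m
        exact congr($(Scheme.Modules.smul_restrictAppIso_inv f M T r) m))

/-- Injective on sections plus locally surjective gives bijective on sections. -/
lemma bijective_app_of_local (φ : M ⟶ N) {W : X.Opens}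
    (hinj : ∀ T ≤ W, Function.Injective (φ.app T))
    (hsurj : ∀ T ≤ W, ∀ (z : Γ(N, T)), ∀ p ∈ T, ∃ (V : X.Opens) (hV : V ≤ T) (y : Γ(M, V)),
      p ∈ V ∧ φ.app V y = res N hV z) :
    ∀ T ≤ W, Function.Bijective (φ.app T) := by
  intro T hT
  refine ⟨hinj T hT, fun z => ?_⟩
  choose V hV y hp hy using fun p : T => hsurj T hT z p p.2
  have hcov : T ≤ ⨆ p, V p := fun p hp' => Opens.mem_iSup.mpr ⟨⟨p, hp'⟩, hp ⟨p, hp'⟩⟩
  obtain ⟨t, ht⟩ := exists_glue M V hV hcov y fun i j => by
    refine hinj _ (inf_le_left.trans ((hV i).trans hT)) ?_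
    rw [app_res, app_res, hy, hy, res_res, res_res]
  refine ⟨t, section_ext' N V hV hcov _ _ fun p => ?_⟩
  rw [← app_res, ht, hy]

/-- The whole module as a subsheaf. -/
def topSub (M : X.Modules) : SubMod72.Sub M where
  carrier _ := ⊤
  res_mem _ _ _ := trivial
  local_mem _ _ := trivial

lemma agreeOn_topSub_of_locGenBy {V : X.Opens} {ι : Type u} [Fintype ι] (s : ι → Γ(M, V))
    (hs : LocGenBy M V s) : SubMod72.AgreeOn V (topSub M) (SubMod72.locSpan (Set.range s)) := by
  intro W hW
  refine le_antisymm (fun x _ => ?_) le_top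
  refine (SubMod72.locSpan (Set.range s)).local_mem x fun p hp => ?_
  obtain ⟨W', h₁, h₂, a, hp', e⟩ := hs W hW x p hp
  refine ⟨W', h₁, hp', SubMod72.mem_locSpan h₂ ?_⟩
  rw [e]
  exact Submodule.sum_mem _ fun i _ => Submodule.smul_mem _ _ (Submodule.subset_span ⟨s i, ⟨i, rfl⟩, rfl⟩)

lemma fg_topSub_of_finite [M.IsQuasicoherent] {W : X.Opens}
    (h : ∀ D : X.Opens, IsAffineOpen D → D ≤ W → Module.Finite Γ(X, D) Γ(M, D)) :
    SubMod72.FG W (topSub M) := by
  intro p hp
  obtain ⟨D, hD, hpD, hDW⟩ := exists_isAffineOpen_mem_and_subset hp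
  have := h D hD hDW
  obtain ⟨n, s, hs⟩ := Module.Finite.exists_fin (R := Γ(X, D)) (M := Γ(M, D))
  refine ⟨D, Set.range (s ∘ (ULift.down : ULift.{u} (Fin n) → Fin n)), hDW, hpD, Set.finite_range _,
    agreeOn_topSub_of_locGenBy _ (locGenBy_of_span_eq_top M hD (isLocAt_of_isQuasicoherent M hD) _ ?_)⟩
  rw [Set.range_comp, ULift.down_surjective.range_eq, Set.image_univ, hs]

lemma isQuasicoherent_freeMod (X : Scheme.{u}) (n : ℕ) : (FlatMod.freeMod X n).IsQuasicoherent :=
  isQuasicoherent_of_isFinLocFree (isFinLocFree_iff.mpr fun x => by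
    refine ⟨⊤, n, unitVec X n, trivial, fun y _ => ⟨fun c d h => ?_, fun e => ?_⟩⟩
    · obtain ⟨V, hV, hyV, a, ha⟩ := exists_common_lift (U := ⊤) (y := y) trivial (c - d)
      have h0 : germComb (unitVec X n) y trivial (c - d) = 0 := by
        simp only [germComb, Pi.sub_apply, sub_smul, Finset.sum_sub_distrib]
        exact sub_eq_zero.mpr h
      obtain ⟨V', hV', hyV', e'⟩ := exists_comb_eq hV a 0 hyV (by
        rw [funext ha, h0]; exact (germM_zero hyV).symm)
      rw [res_zero] at e'
      have := free_eq_of_comb (a := fun i => resO X hV' (a i)) (b := 0)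
        (e'.trans (by simp))
      funext i
      have hi := congrArg (fun r => X.presheaf.germ V' y hyV' r) (congrFun this i)
      rw [germ_resO, ha, Pi.zero_apply, map_zero, Pi.sub_apply, sub_eq_zero] at hi
      exact hi
    · obtain ⟨W, hyW, z, rfl⟩ := germM_exist e
      obtain ⟨a, ha⟩ := free_exists_comb z
      exact ⟨fun i => X.presheaf.germ W y hyW (a i),
        (germ_comb (unitVec X n) le_top a y hyW).symm.trans (congrArg _ ha)⟩)

/-- The map from a free module given by global sections. -/
def freeDesc {n : ℕ} (s : Fin n → Γ(M, ⊤)) : FlatMod.freeMod X n ⟶ M :=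
  Sigma.desc fun i => M.unitHomEquiv.symm ⟨fun W => res M (le_top : W.unop ≤ ⊤) (s i),
    fun {W _} j => res_res (le_top : W.unop ≤ ⊤) (leOfHom j.unop) (s i)⟩

lemma freeDesc_comb {n : ℕ} (s : Fin n → Γ(M, ⊤)) {W : X.Opens} (a : Fin n → Γ(X, W)) :
    (freeDesc s).app W (∑ i, a i • res _ le_top (unitVec X n i)) =
      ∑ i, a i • res M le_top (s i) := by
  rw [map_sum]
  refine Finset.sum_congr rfl fun i _ => ?_
  rw [Scheme.Modules.Hom.app_smul, app_res]
  have : (freeDesc s).app ⊤ (unitVec X n i) = s i := by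
    change (Sigma.ι (fun _ : Fin n => Coh.structureModule X) i ≫ freeDesc s).app ⊤ (toUnit 1) = _
    rw [freeDesc, Sigma.ι_desc]
    refine (one_smul Γ(X, ⊤) _).trans ?_
    exact res_self (s i)
  rw [this]

lemma finite_free_sections (n : ℕ) (W : X.Opens) :
    Module.Finite Γ(X, W) Γ(FlatMod.freeMod X n, W) :=
  Module.Finite.of_surjective
    (Fintype.linearCombination Γ(X, W) fun i => res (FlatMod.freeMod X n) (le_top : W ≤ ⊤) (unitVec X n i))
    fun z => by
      obtain ⟨a, ha⟩ := free_exists_comb z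
      exact ⟨a, by rw [Fintype.linearCombination_apply]; exact ha⟩

lemma finitePresentation_free_sections (n : ℕ) (W : X.Opens) :
    Module.FinitePresentation Γ(X, W) Γ(FlatMod.freeMod X n, W) := by
  let l := Fintype.linearCombination Γ(X, W)
    fun i => res (FlatMod.freeMod X n) (le_top : W ≤ ⊤) (unitVec X n i)
  refine Module.FinitePresentation.of_equiv (LinearEquiv.ofBijective l ⟨fun a b h => ?_, fun z => ?_⟩)
  · simp only [l, Fintype.linearCombination_apply] at h
    exact free_eq_of_comb h
  · obtain ⟨a, ha⟩ := free_exists_comb z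
    exact ⟨a, by simp only [l, Fintype.linearCombination_apply]; exact ha⟩

end Groth.Agent.Props58.Ext
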