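import Groth.Agent.Props58.Ext.FPExt
import Mathlib.AlgebraicGeometry.IdealSheaf.Basic

/-! Quasi-compact opens are complements of supports of finite type ideal sheaves. -/

set_option autoImplicit false
set_option backward.isDefEq.respectTransparency.types false

noncomputable section

universe u

open CategoryTheory Limits AlgebraicGeometry TopologicalSpace Opposite
open Groth.Agent.QC70 Groth.Agent.SubMod72

namespace Groth.Agent.Props58.Ext

variable {X : Scheme.{u}}

/-- Functions vanishing at all points of a set. -/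
def vanSub (Z : Set X) : Sub (unitMod X) where
  carrier W :=
    { carrier := {a | ∀ p ∈ W, p ∈ Z → p ∉ X.basicOpen (show Γ(X, W) from a)}
      add_mem' := fun {a b} ha hb p hp hz h =>
        (X.basicOpen_add_le (show Γ(X, W) from a) (show Γ(X, W) from b) h).elim (ha p hp hz) (hb p hp hz)
      zero_mem' := fun p _ _ h => by
        change p ∈ X.basicOpen (0 : Γ(X, W)) at h
        rw [Scheme.basicOpen_zero] at h
        exact h
      smul_mem' := fun r a ha p hp hz h => by
        change p ∈ X.basicOpen (r * (show Γ(X, W) from a)) at h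
        rw [Scheme.basicOpen_mul] at h
        exact ha p hp hz h.2 }
  res_mem {V W} h a ha p hp hz hb := by
    change p ∈ X.basicOpen (resO X h (show Γ(X, W) from a)) at hb
    rw [Scheme.basicOpen_res] at hb
    exact ha p (h hp) hz hb.2
  local_mem {W} a ha p hp hz hb := by
    obtain ⟨V, h, hpV, e⟩ := ha p hp
    refine e p hpV hz ?_
    change p ∈ X.basicOpen (resO X h (show Γ(X, W) from a))
    rw [Scheme.basicOpen_res]
    exact ⟨hpV, hb⟩

lemma isQuasicoherent_vanSub (Z : Set X) : (toMod (vanSub Z)).IsQuasicoherent := by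
  refine isQuasicoherent_of_forall_isLocAt _ fun D hD => ⟨fun g s => ?_, fun g t ht => ?_⟩
  · obtain ⟨n, t, ht⟩ := (isLocAt_unit hD).exists_of g ((toModι (vanSub Z)).app _ s)
    have hs := (mem_iff_exists (vanSub Z) _).mpr ⟨s, rfl⟩
    have hgt : g • t ∈ (vanSub Z).carrier D := by
      intro p hp hz hb
      change p ∈ X.basicOpen (g * (show Γ(X, D) from t)) at hb
      rw [Scheme.basicOpen_mul] at hb
      have h : resO X (X.basicOpen_le g) g ^ n • (toModι (vanSub Z)).app _ s ∈
          (vanSub Z).carrier (X.basicOpen g) := Submodule.smul_mem _ _ hs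
      rw [← ht] at h
      refine h p hb.1 hz ?_
      change p ∈ X.basicOpen (resO X (X.basicOpen_le g) (show Γ(X, D) from t))
      rw [Scheme.basicOpen_res]
      exact hb
    obtain ⟨y, hy⟩ := (mem_iff_exists (vanSub Z) _).mp hgt
    refine ⟨n + 1, y, app_injective_of_mono (toModι (vanSub Z)) _ ?_⟩
    rw [coe_res, hy, res_smul, ht, Scheme.Modules.Hom.app_smul, pow_succ', mul_smul]
  · obtain ⟨n, hn⟩ := (isLocAt_unit hD).eq_zero_of g ((toModι (vanSub Z)).app D t) (by
      rw [← coe_res, ht, map_zero])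
    refine ⟨n, app_injective_of_mono (toModι (vanSub Z)) _ ?_⟩
    rw [Scheme.Modules.Hom.app_smul, hn, map_zero]

variable [CompactSpace X] [QuasiSeparatedSpace X]

theorem exists_idealSheaf_of_isCompact {U : X.Opens} (hU : IsCompact (U : Set X)) :
    ∃ I : X.IdealSheafData, (∀ V : X.affineOpens, (I.ideal V).FG) ∧
      (I.support : Set X) = (U : Set X)ᶜ := by
  have := isQuasicoherent_vanSub ((U : Set X)ᶜ)
  let F := toMod (vanSub ((U : Set X)ᶜ))
  let ι := toModι (vanSub ((U : Set X)ᶜ))
  have hfull : ∀ T ≤ U, Function.Bijective (ι.app T) := fun T hT =>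
    ⟨app_injective_of_mono ι T, fun a =>
      (mem_iff_exists _ a).mp fun p hp hz => absurd (hT hp) hz⟩
  obtain ⟨H, j, hj, hH, hHft, hjU⟩ := exists_fg_sub F hU fun D hD hDU =>
    haveI : Module.Finite Γ(X, D) Γ(unitMod X, D) :=
      inferInstanceAs (Module.Finite Γ(X, D) Γ(X, D))
    Module.Finite.equiv (LinearEquiv.ofBijective (appLinear ι D) (hfull D hDU)).symm
  let κ := j ≫ ι
  let I : ∀ V : X.affineOpens, Ideal Γ(X, V) := fun V => LinearMap.range (appLinear κ V.1)
  have hmap : ∀ (V : X.affineOpens) (f : Γ(X, V)),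
      (I V).map (X.presheaf.map (homOfLE <| X.basicOpen_le f).op).hom = I (X.affineBasicOpen f) := by
    intro V f
    refine le_antisymm (Ideal.map_le_iff_le_comap.mpr ?_) ?_
    · rintro _ ⟨y, rfl⟩
      exact ⟨res H (X.basicOpen_le f) y, app_res κ _ y⟩
    · rintro _ ⟨y, rfl⟩
      obtain ⟨n, t, ht⟩ := (isLocAt_of_isQuasicoherent H V.2).exists_of f y
      have hu : IsUnit (resO X (X.basicOpen_le f) f ^ n) :=
        (RingedSpace.isUnit_res_basicOpen _ f).pow n
      refine (Ideal.unit_mul_mem_iff_mem _ hu).mp ?_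
      have h := congrArg (κ.app (X.basicOpen f)) ht
      rw [app_res, Scheme.Modules.Hom.app_smul] at h
      have h2 : resO X (X.basicOpen_le f) f ^ n * (show Γ(X, X.basicOpen f) from κ.app _ y) =
          resO X (X.basicOpen_le f) (show Γ(X, V.1) from κ.app V.1 t) := h.symm
      show resO X (X.basicOpen_le f) f ^ n * (show Γ(X, X.basicOpen f) from κ.app _ y) ∈ _
      rw [h2]
      exact Ideal.mem_map_of_mem _ ⟨t, rfl⟩
  let J : X.IdealSheafData := { ideal := I, map_ideal_basicOpen := hmap }
  refine ⟨J, fun V => ?_, ?_⟩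
  · have := finite_sections_of_isFiniteType H V.2
    exact Submodule.fg_range _
  ext x
  obtain ⟨V, hV, hxV, -⟩ := exists_isAffineOpen_mem_and_subset (show x ∈ (⊤ : X.Opens) from trivial)
  rw [SetLike.mem_coe, Scheme.IdealSheafData.mem_support_iff_of_mem (U := ⟨V, hV⟩) hxV]
  simp only [Scheme.mem_zeroLocus_iff, SetLike.mem_coe, Set.mem_compl_iff]
  constructor
  · intro h hxU
    obtain ⟨f, hf, hxf⟩ := hV.exists_basicOpen_le (V := U) ⟨x, hxU⟩ hxV
    obtain ⟨y, hy⟩ := ((hfull _ hf).comp (hjU _ hf)).2 (toUnit 1)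
    obtain ⟨n, t, ht⟩ := (isLocAt_of_isQuasicoherent H hV).exists_of f y
    refine h (show Γ(X, V) from κ.app V t) ⟨t, rfl⟩ ?_
    have h' := congrArg (κ.app (X.basicOpen f)) ht
    rw [app_res, Scheme.Modules.Hom.app_smul] at h'
    have h2 : resO X (X.basicOpen_le f) (show Γ(X, V) from κ.app V t) =
        resO X (X.basicOpen_le f) f ^ n * 1 := h'.trans (congrArg _ hy)
    have hx : x ∈ X.basicOpen (resO X (X.basicOpen_le f) (show Γ(X, V) from κ.app V t)) := by
      have hu : IsUnit (resO X (X.basicOpen_le f) f ^ n) :=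
        (RingedSpace.isUnit_res_basicOpen _ f).pow n
      rw [h2, mul_one, X.basicOpen_of_isUnit hu]
      exact hxf
    rw [Scheme.basicOpen_res] at hx
    exact hx.2
  · rintro hxU _ ⟨y, rfl⟩
    exact (mem_iff_exists (vanSub ((U : Set X)ᶜ)) _).mpr ⟨j.app V y, rfl⟩ x hxV hxU

omit [QuasiSeparatedSpace X] in
theorem isCompact_of_idealSheaf {U : X.Opens} (I : X.IdealSheafData)
    (hI : ∀ V : X.affineOpens, (I.ideal V).FG) (hs : (I.support : Set X) = (U : Set X)ᶜ) :
    IsCompact (U : Set X) := by
  have key : ∀ V : X.affineOpens, IsCompact ((U : Set X) ∩ V.1) := by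
    intro V
    obtain ⟨s, hs'⟩ := hI V
    have heq : (U : Set X) ∩ V.1 = ⋃ g ∈ s, (X.basicOpen g : Set X) := by
      ext x
      constructor
      · rintro ⟨hxU, hxV⟩
        have hx : x ∉ (I.support : Set X) := by rw [hs]; exact fun h => h hxU
        have hz : X.zeroLocus (U := V.1) (I.ideal V) = X.zeroLocus (U := V.1) (s : Set Γ(X, V.1)) := by
          rw [← hs']
          exact Scheme.zeroLocus_span X _
        rw [SetLike.mem_coe, Scheme.IdealSheafData.mem_support_iff_of_mem (U := V) hxV, hz,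
          Scheme.mem_zeroLocus_iff] at hx
        push_neg at hx
        obtain ⟨g, hg, hxg⟩ := hx
        exact Set.mem_iUnion₂.mpr ⟨g, hg, hxg⟩
      · intro hx
        obtain ⟨g, hg, hxg⟩ := Set.mem_iUnion₂.mp hx
        have hxV : x ∈ V.1 := X.basicOpen_le g hxg
        refine ⟨by_contra fun hxU => ?_, hxV⟩
        have h : x ∈ (I.support : Set X) := by rw [hs]; exact hxU
        rw [SetLike.mem_coe, Scheme.IdealSheafData.mem_support_iff_of_mem (U := V) hxV,
          Scheme.mem_zeroLocus_iff] at h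
        exact h g (hs' ▸ Submodule.subset_span hg) hxg
    rw [heq]
    exact s.finite_toSet.isCompact_biUnion fun g _ => (V.2.basicOpen g).isCompact
  obtain ⟨t, ht⟩ := isCompact_univ.elim_finite_subcover (fun V : X.affineOpens => (V.1 : Set X))
    (fun V => V.1.2) (fun x _ => by
      obtain ⟨V, hV, hxV, -⟩ :=
        exists_isAffineOpen_mem_and_subset (show x ∈ (⊤ : X.Opens) from trivial)
      exact Set.mem_iUnion.mpr ⟨⟨V, hV⟩, hxV⟩)
  have : (U : Set X) = ⋃ V ∈ t, ((U : Set X) ∩ V.1) := by
    refine Set.Subset.antisymm (fun x hx => ?_) (Set.iUnion₂_subset fun V _ => Set.inter_subset_left)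
    obtain ⟨V, hV, hxV⟩ := Set.mem_iUnion₂.mp (ht (Set.mem_univ x))
    exact Set.mem_iUnion₂.mpr ⟨V, hV, hx, hxV⟩
  rw [this]
  exact t.finite_toSet.isCompact_biUnion fun V _ => key V

end Groth.Agent.Props58.Ext
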