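import Groth.Agent.Props58.Ext.FPExt

/-! Finite type quasi-coherent modules as directed colimits of finitely presented ones. -/

set_option autoImplicit false
set_option backward.isDefEq.respectTransparency.types false

noncomputable section

universe u

open CategoryTheory Limits AlgebraicGeometry TopologicalSpace Opposite
open Groth.Agent.QC70 Groth.Agent.Props58.LocFree Groth.Agent.SubMod72

namespace Groth.Agent.Props58.Ext

variable {X : Scheme.{u}} {F : X.Modules}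

instance : PartialOrder (Sub F) := PartialOrder.lift Sub.carrier fun _ _ h => Sub.ext h

lemma sub_le_iff {P Q : Sub F} : P ≤ Q ↔ ∀ W, P.carrier W ≤ Q.carrier W := Iff.rfl

/-- The sum of two subsheaves. -/
def subSup (P Q : Sub F) : Sub F where
  carrier W :=
    { carrier := {x | ∀ p ∈ W, ∃ (V : X.Opens) (h : V ≤ W), p ∈ V ∧
        res F h x ∈ P.carrier V ⊔ Q.carrier V}
      add_mem' := fun {x y} hx hy p hp => by
        obtain ⟨V₁, h₁, hp₁, e₁⟩ := hx p hp
        obtain ⟨V₂, h₂, hp₂, e₂⟩ := hy p hp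
        obtain ⟨a, ha, b, hb, e⟩ := Submodule.mem_sup.mp e₁
        obtain ⟨c, hc, d, hd, e'⟩ := Submodule.mem_sup.mp e₂
        refine ⟨V₁ ⊓ V₂, inf_le_left.trans h₁, ⟨hp₁, hp₂⟩, ?_⟩
        rw [res_add, ← res_res h₁ (inf_le_left : V₁ ⊓ V₂ ≤ V₁),
          ← res_res h₂ (inf_le_right : V₁ ⊓ V₂ ≤ V₂), ← e, ← e', res_add, res_add]
        refine add_mem (add_mem ?_ ?_) (add_mem ?_ ?_)
        · exact Submodule.mem_sup_left (P.res_mem _ ha)
        · exact Submodule.mem_sup_right (Q.res_mem _ hb)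
        · exact Submodule.mem_sup_left (P.res_mem _ hc)
        · exact Submodule.mem_sup_right (Q.res_mem _ hd)
      zero_mem' := fun p hp => ⟨W, le_rfl, hp, by rw [res_zero]; exact zero_mem _⟩
      smul_mem' := fun a x hx p hp => by
        obtain ⟨V, h, hp', e⟩ := hx p hp
        exact ⟨V, h, hp', by rw [res_smul]; exact Submodule.smul_mem _ _ e⟩ }
  res_mem {V W} h x hx p hp := by
    obtain ⟨V', h', hp', e⟩ := hx p (h hp)
    obtain ⟨a, ha, b, hb, e'⟩ := Submodule.mem_sup.mp e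
    refine ⟨V ⊓ V', inf_le_left, ⟨hp, hp'⟩, ?_⟩
    rw [res_res, ← res_res h' (inf_le_right : V ⊓ V' ≤ V'), ← e', res_add]
    exact add_mem (Submodule.mem_sup_left (P.res_mem _ ha)) (Submodule.mem_sup_right (Q.res_mem _ hb))
  local_mem {W} x hx p hp := by
    obtain ⟨V, h, hp', e⟩ := hx p hp
    obtain ⟨V', h', hp'', e'⟩ := e p hp'
    exact ⟨V', h'.trans h, hp'', by rw [← res_res h h']; exact e'⟩

lemma le_subSup_left (P Q : Sub F) : P ≤ subSup P Q := sub_le_iff.mpr fun W x hx p hp =>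
  ⟨W, le_rfl, hp, by rw [res_self]; exact Submodule.mem_sup_left hx⟩

lemma le_subSup_right (P Q : Sub F) : Q ≤ subSup P Q := sub_le_iff.mpr fun W x hx p hp =>
  ⟨W, le_rfl, hp, by rw [res_self]; exact Submodule.mem_sup_right hx⟩

lemma subSup_le {P Q R : Sub F} {V : X.Opens} (hP : ∀ W ≤ V, P.carrier W ≤ R.carrier W)
    (hQ : ∀ W ≤ V, Q.carrier W ≤ R.carrier W) : ∀ W ≤ V, (subSup P Q).carrier W ≤ R.carrier W := by
  intro W hW x hx
  refine R.local_mem x fun p hp => ?_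
  obtain ⟨V', h, hp', e⟩ := hx p hp
  exact ⟨V', h, hp', sup_le (hP V' (h.trans hW)) (hQ V' (h.trans hW)) e⟩

lemma fg_subSup {U : X.Opens} {P Q : Sub F} (hP : FG U P) (hQ : FG U Q) : FG U (subSup P Q) := by
  intro p hp
  obtain ⟨V₁, S₁, hV₁, hp₁, hS₁, e₁⟩ := hP p hp
  obtain ⟨V₂, S₂, hV₂, hp₂, hS₂, e₂⟩ := hQ p hp
  let V := V₁ ⊓ V₂
  have a₁ : AgreeOn V P (locSpan (res F (inf_le_left : V ≤ V₁) '' S₁)) :=
    (e₁.mono inf_le_left).trans (locSpan_res inf_le_left S₁)
  have a₂ : AgreeOn V Q (locSpan (res F (inf_le_right : V ≤ V₂) '' S₂)) :=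
    (e₂.mono inf_le_right).trans (locSpan_res inf_le_right S₂)
  refine ⟨V, res F (inf_le_left : V ≤ V₁) '' S₁ ∪ res F (inf_le_right : V ≤ V₂) '' S₂,
    inf_le_left.trans hV₁, ⟨hp₁, hp₂⟩, (hS₁.image _).union (hS₂.image _), fun W hW => ?_⟩
  refine le_antisymm (subSup_le (fun W' hW' => ?_) (fun W' hW' => ?_) W hW) ?_
  · rw [a₁ W' hW']
    exact span_le_of_forall_mem hW' fun s hs => self_mem_locSpan hW' (Or.inl hs)
  · rw [a₂ W' hW']
    exact span_le_of_forall_mem hW' fun s hs => self_mem_locSpan hW' (Or.inr hs)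
  · refine span_le_of_forall_mem hW fun s hs => ?_
    rcases hs with hs | hs
    · refine sub_le_iff.mp (le_subSup_left P Q) W ?_
      rw [a₁ W hW]
      exact self_mem_locSpan hW hs
    · refine sub_le_iff.mp (le_subSup_right P Q) W ?_
      rw [a₂ W hW]
      exact self_mem_locSpan hW hs

variable [CompactSpace X] [QuasiSeparatedSpace X]

theorem exists_directed_colimit (F : X.Modules) [F.IsQuasicoherent] [F.IsFiniteType] :
    ∃ (J : Type u) (_ : PartialOrder J) (_ : IsDirected J (· ≤ ·)) (_ : Nonempty J)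
      (D : J ⥤ X.Modules) (ι : D ⟶ (Functor.const J).obj F),
      Nonempty (IsColimit (Cocone.mk F ι)) ∧
      (∀ j, CohB1.IsFP (D.obj j)) ∧ ∀ (j j' : J) (h : j ⟶ j'), Epi (D.map h) := by
  obtain ⟨P, φ, hP, hφ⟩ := exists_fp_epi F
  haveI := hP
  haveI := isQuasicoherent_kernel φ
  let K := kernel φ
  let J := {Q : Sub K // FG ⊤ Q}
  let κ : ∀ Q : J, toMod Q.1 ⟶ P := fun Q => toModι Q.1 ≫ kernel.ι φ
  have hzero : ∀ (Q Q' : J), Q ≤ Q' → κ Q ≫ cokernel.π (κ Q') = 0 := by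
    intro Q Q' h
    ext W z
    obtain ⟨y, hy⟩ := (mem_iff_exists Q'.1 _).mp
      (sub_le_iff.mp h W ((mem_iff_exists Q.1 _).mpr ⟨z, rfl⟩))
    show (cokernel.π (κ Q')).app W ((kernel.ι φ).app W ((toModι Q.1).app W z)) = 0
    rw [← hy]
    exact congr((Scheme.Modules.Hom.app $(cokernel.condition (κ Q')) W) y)
  let D : J ⥤ X.Modules :=
    { obj := fun Q => cokernel (κ Q)
      map := fun {Q Q'} h => cokernel.desc (κ Q) (cokernel.π (κ Q')) (hzero Q Q' h.le)
      map_id := fun Q => coequalizer.hom_ext (by simp)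
      map_comp := fun {a b c} f g => coequalizer.hom_ext (by simp) }
  have hdir : IsDirected J (· ≤ ·) := ⟨fun a b =>
    ⟨⟨subSup a.1 b.1, fg_subSup a.2 b.2⟩, le_subSup_left _ _, le_subSup_right _ _⟩⟩
  let bot₀ : J := ⟨locSpan (V := ⊤) ∅, fg_locSpan Set.finite_empty⟩
  let ι : D ⟶ (Functor.const J).obj F :=
    { app := fun Q => cokernel.desc (κ Q) φ (by simp [κ, kernel.condition])
      naturality := fun Q Q' h => coequalizer.hom_ext (by simp [D]) }
  have hkill : ∀ s : Cocone D, kernel.ι φ ≫ (cokernel.π (κ bot₀) ≫ s.ι.app bot₀) = 0 := by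
    intro s
    ext W z
    refine section_ext s.pt _ _ fun p hp => ?_
    obtain ⟨V, hV, hpV, hVW⟩ := exists_isAffineOpen_mem_and_subset hp
    refine ⟨V, hVW, hpV, ?_⟩
    obtain ⟨Q, hQ, hQP⟩ := exists_extension_qcqs hV.isCompact
      (fg_locSpan (F := K) (Set.finite_singleton (res K hVW z)))
    let Q₀ : J := ⟨subSup (bot₀ : J).1 Q, fg_subSup (bot₀ : J).2 hQ⟩
    have hle : bot₀ ≤ Q₀ := le_subSup_left _ _
    have hmem : res K hVW z ∈ Q₀.1.carrier V := by
      refine sub_le_iff.mp (le_subSup_right _ _) V ?_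
      rw [hQP V le_rfl]
      have h := self_mem_locSpan (F := K) (S := {res K hVW z}) (le_refl V) (Set.mem_singleton _)
      rwa [res_self] at h
    obtain ⟨y, hy⟩ := (mem_iff_exists Q₀.1 _).mp hmem
    have hπ : cokernel.π (κ bot₀) ≫ s.ι.app bot₀ = cokernel.π (κ Q₀) ≫ s.ι.app Q₀ := by
      rw [← s.w (homOfLE hle)]
      simp [D]
    rw [← app_res, hπ, Scheme.Modules.Hom.zero_app]
    refine Eq.trans ?_ (res_zero _).symm
    show (s.ι.app Q₀).app V ((cokernel.π (κ Q₀)).app V ((kernel.ι φ).app V (res K hVW z))) = 0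
    rw [← hy]
    refine Eq.trans (congrArg ((s.ι.app Q₀).app V) ?_) (map_zero _)
    exact congr((Scheme.Modules.Hom.app $(cokernel.condition (κ Q₀)) V) y)
  refine ⟨J, inferInstance, hdir, ⟨bot₀⟩, D, ι, ⟨?_⟩, fun Q => ?_, fun Q Q' h => ?_⟩
  · refine
      { desc := fun s => Abelian.epiDesc φ (cokernel.π (κ bot₀) ≫ s.ι.app bot₀) (hkill s)
        fac := fun s Q => ?_
        uniq := fun s m hm => ?_ }
    · refine coequalizer.hom_ext ?_
      show cokernel.π (κ Q) ≫ ι.app Q ≫ _ = cokernel.π (κ Q) ≫ s.ι.app Q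
      simp only [ι, cokernel.π_desc_assoc]
      rw [Abelian.comp_epiDesc]
      let Q₀ : J := ⟨subSup (bot₀ : J).1 Q.1, fg_subSup (bot₀ : J).2 Q.2⟩
      have h₁ : bot₀ ≤ Q₀ := le_subSup_left _ _
      have h₂ : Q ≤ Q₀ := le_subSup_right _ _
      rw [← s.w (homOfLE h₁), ← s.w (homOfLE h₂)]
      simp [D]
    · rw [← cancel_epi φ, Abelian.comp_epiDesc, ← hm bot₀]
      simp [ι]
  · have := (isQuasicoherent_isFiniteType_toMod Q.2).1
    have := (isQuasicoherent_isFiniteType_toMod Q.2).2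
    haveI : (cokernel (κ Q)).IsQuasicoherent := isQuasicoherent_cokernel (κ Q)
    exact isFP_of_fpOn _ (fpOn_cokernel (κ Q) (fpOn_of_isFP P ⊤)
      fun T hT _ => finite_sections_of_isFiniteType _ hT)
  · exact epi_of_epi_fac (f := cokernel.π (κ Q)) (h := cokernel.π (κ Q')) (cokernel.π_desc _ _ _)

end Groth.Agent.Props58.Ext
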